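import Cfsg.Agent.CriticalFive.Target
import Cfsg.Agent.Forms.UnitaryTransvections
import Cfsg.Agent.Co2Unitary.Data

/-!
The unitary space of dimension six over the field with four elements, by codes.
-/

set_option autoImplicit false
set_option maxRecDepth 100000

namespace CfsgLib.Co2Unitary

open CfsgLib.CriticalFive (F4)
open CfsgLib.RepBounds.Unit Matrix TriangleData

/-- The Frobenius of the field with four elements. -/
def frob4 : F4 →+* F4 where
  toFun x := x * x
  map_one' := by decide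
  map_mul' := by decide
  map_zero' := by decide
  map_add' := by decide

/-- The involution of the field with four elements. -/
def C4 : ConjField F4 where
  σ := frob4
  q := 2
  pow x := (sq x).symm
  card := by decide

theorem C4_q : C4.q = 2 := rfl

/-- vectors -/
abbrev V6 : Type := Fin 6 → F4

/-- the vector with a code -/
def vecN (n : ℕ) : V6 := fun a => ⟨n.testBit (2 * a.val), n.testBit (2 * a.val + 1)⟩

/-- the matrix with row codes -/
def matN (rows : List ℕ) : Matrix (Fin 6) (Fin 6) F4 :=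
  Matrix.of fun i j => vecN (rows.getD i.val 0) j

/-- the code of a vector -/
def codeV (v : V6) : ℕ :=
  (List.finRange 6).foldr (fun a acc => (if (v a).re then 1 else 0) + (if (v a).im then 2 else 0) + 4 * acc) 0

theorem vecN_codeV : ∀ v : V6, ∃ n, n < 4096 ∧ vecN n = v := by
  intro v
  let f : Fin 4096 → V6 := fun n => vecN n.val
  have hinj : Function.Injective f := by
    intro a b e
    refine Fin.ext (Nat.eq_of_testBit_eq fun i => ?_)
    by_cases hi : i < 12
    · have h := congrFun e ⟨i / 2, by omega⟩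
      simp only [f, vecN, F4.mk.injEq] at h
      rcases Nat.even_or_odd' i with ⟨k, rfl | rfl⟩
      · simpa [show 2 * k / 2 = k by omega] using h.1
      · simpa [show (2 * k + 1) / 2 = k by omega] using h.2
    · have h12 : 2 ^ 12 ≤ 2 ^ i := Nat.pow_le_pow_right (by norm_num) (by omega)
      rw [Nat.testBit_lt_two_pow (lt_of_lt_of_le a.2 h12), Nat.testBit_lt_two_pow (lt_of_lt_of_le b.2 h12)]
  have hbij : Function.Bijective f := (Fintype.bijective_iff_injective_and_card f).2
    ⟨hinj, by simp [V6, F4.card_eq]⟩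
  obtain ⟨n, rfl⟩ := hbij.2 v
  exact ⟨n.val, n.2, rfl⟩

theorem vecN_inj {m n : ℕ} (hm : m < 4096) (hn : n < 4096) (e : vecN m = vecN n) : m = n := by
  refine Nat.eq_of_testBit_eq fun i => ?_
  by_cases hi : i < 12
  · have h := congrFun e ⟨i / 2, by omega⟩
    simp only [vecN, F4.mk.injEq] at h
    rcases Nat.even_or_odd' i with ⟨k, rfl | rfl⟩
    · simpa [show 2 * k / 2 = k by omega] using h.1
    · simpa [show (2 * k + 1) / 2 = k by omega] using h.2
  · have h12 : 2 ^ 12 ≤ 2 ^ i := Nat.pow_le_pow_right (by norm_num) (by omega)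
    rw [Nat.testBit_lt_two_pow (lt_of_lt_of_le hm h12), Nat.testBit_lt_two_pow (lt_of_lt_of_le hn h12)]

/-- multiplication by a root of unity, on codes -/
def omegaN (n : ℕ) : ℕ :=
  Nat.lor (Nat.land (Nat.shiftRight n 1) 1365)
    (Nat.shiftLeft (Nat.xor (Nat.land n 1365) (Nat.land (Nat.shiftRight n 1) 1365)) 1)

/-- a scalar with given code times a coded vector -/
def smulN (s n : ℕ) : ℕ :=
  Nat.xor (bif Nat.testBit s 0 then n else 0) (bif Nat.testBit s 1 then omegaN n else 0)

/-- coordinate of a coded vector, as a code -/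
def coordN (n a : ℕ) : ℕ := Nat.land (Nat.shiftRight n (Nat.mul 2 a)) 3

theorem vecN_xor (m n : ℕ) : vecN (m ^^^ n) = vecN m + vecN n := by
  funext a
  simp only [vecN, Nat.testBit_xor]
  rfl

theorem vecN_zero : vecN 0 = 0 := by
  funext a
  simp only [vecN, Nat.zero_testBit]
  rfl

/-- the scalar with a code -/
def felN (s : ℕ) : F4 := ⟨s.testBit 0, s.testBit 1⟩

theorem vecN_omega (n : ℕ) : vecN (omegaN n) = fun a => (⟨false, true⟩ : F4) * vecN n a := by
  funext a
  show F4.mk ((((n >>> 1) &&& 1365) ||| (((n &&& 1365) ^^^ ((n >>> 1) &&& 1365)) <<< 1)).testBit (2 * a.val))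
    ((((n >>> 1) &&& 1365) ||| (((n &&& 1365) ^^^ ((n >>> 1) &&& 1365)) <<< 1)).testBit (2 * a.val + 1)) = _
  simp only [Nat.testBit_or, Nat.testBit_shiftLeft, Nat.testBit_xor, Nat.testBit_and, Nat.testBit_shiftRight, vecN]
  have hc : (∀ i : Fin 6, (1365 : ℕ).testBit (2 * i.val) = true ∧ (1365 : ℕ).testBit (2 * i.val + 1) = false) := by
    decide
  rw [(hc a).1, (hc a).2, Nat.add_sub_cancel, (hc a).1, show 1 + 2 * a.val = 2 * a.val + 1 by omega]
  have hdec : decide (2 * a.val + 1 ≥ 1) = true := by simp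
  rw [hdec]
  by_cases h0 : a.val = 0
  · rw [h0]
    simp only [Bool.and_false]
    cases n.testBit (2 * 0) <;> cases n.testBit (2 * 0 + 1) <;> rfl
  · have em : (1365 : ℕ).testBit (2 * a.val - 1) = false :=
      (by decide : ∀ i : Fin 6, i.val ≠ 0 → (1365 : ℕ).testBit (2 * i.val - 1) = false) a h0
    rw [em]
    simp only [Bool.and_false, Bool.xor_false, Bool.and_true, Bool.false_and, Bool.false_xor, Bool.true_and]
    cases n.testBit (2 * a.val) <;> cases n.testBit (2 * a.val + 1) <;> rfl

theorem vecN_smulN (s n : ℕ) : vecN (smulN s n) = felN s • vecN n := by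
  show vecN ((bif s.testBit 0 then n else 0) ^^^ (bif s.testBit 1 then omegaN n else 0)) = _
  rw [vecN_xor]
  funext a
  cases h0 : s.testBit 0 <;> cases h1 : s.testBit 1 <;>
    simp only [felN, h0, h1, cond_true, cond_false, vecN_zero, vecN_omega, Pi.add_apply, Pi.zero_apply,
      Pi.smul_apply, smul_eq_mul] <;>
    exact (by decide : ∀ x : F4, (0 : F4) + 0 = ⟨false, false⟩ * x ∧
      0 + ⟨false, true⟩ * x = ⟨false, true⟩ * x ∧ x + 0 = ⟨true, false⟩ * x ∧
      x + ⟨false, true⟩ * x = ⟨true, true⟩ * x) (vecN n a) |>.elim (by tauto)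

theorem felN_coordN (n : ℕ) (a : Fin 6) : felN (coordN n a.val) = vecN n a := by
  show F4.mk (((n >>> (2 * a.val)) &&& 3).testBit 0) (((n >>> (2 * a.val)) &&& 3).testBit 1) = _
  simp only [Nat.testBit_and, Nat.testBit_shiftRight, vecN]
  simp [Nat.add_comm, show (3 : ℕ).testBit 1 = true by decide]

/-- lookup in a list of chunks of 32 -/
def look (t : List (List ℕ)) (i : ℕ) : ℕ := (t.getD (i / 32) []).getD (i % 32) 0

/-- basis vector `k` of a packed plane -/
def basP (d : ℕ) (k : Fin 3) : V6 := vecN ((d >>> (12 * k.val)) % 4096)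

/-- pivot `k` of a packed plane -/
def pivP (d : ℕ) (k : Fin 3) : Fin 6 := ⟨((d >>> (36 + 3 * k.val)) % 8) % 6, Nat.mod_lt _ (by norm_num)⟩

/-- membership of a vector in a packed plane -/
def InP (d : ℕ) (w : V6) : Prop := ∀ a, w a = ∑ k, w (pivP d k) * basP d k a

instance inPDecidable (d : ℕ) (w : V6) : Decidable (InP d w) := by unfold InP; infer_instance

theorem InP.mulVec {d e : ℕ} {A : Matrix (Fin 6) (Fin 6) F4} (h : ∀ k, InP e (A *ᵥ basP d k))
    {w : V6} (hw : InP d w) : InP e (A *ᵥ w) := by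
  have hw' : w = ∑ k, w (pivP d k) • basP d k := funext fun a => by
    rw [hw a, Finset.sum_apply]; rfl
  intro a
  rw [hw', Matrix.mulVec_sum]
  simp only [Matrix.mulVec_smul, Finset.sum_apply, Pi.smul_apply, smul_eq_mul]
  calc ∑ k, w (pivP d k) * (A *ᵥ basP d k) a
      = ∑ k, w (pivP d k) * ∑ l, (A *ᵥ basP d k) (pivP e l) * basP e l a :=
        Finset.sum_congr rfl fun k _ => by rw [← h k a]
    _ = _ := by
        simp only [Finset.mul_sum, Finset.sum_mul]
        rw [Finset.sum_comm]
        exact Finset.sum_congr rfl fun l _ => Finset.sum_congr rfl fun k _ => by ring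

/-- membership in a packed plane, on codes -/
def inPN (d n : ℕ) : Bool :=
  Nat.beq n (Nat.xor (Nat.xor (smulN (coordN n (d / 2 ^ 36 % 8 % 6)) (d % 4096))
    (smulN (coordN n (d / 2 ^ 39 % 8 % 6)) (d / 2 ^ 12 % 4096)))
    (smulN (coordN n (d / 2 ^ 42 % 8 % 6)) (d / 2 ^ 24 % 4096)))

theorem InP_of_inPN {d n : ℕ} (h : inPN d n = true) : InP d (vecN n) := by
  intro a
  have h' := congrArg vecN (Nat.eq_of_beq_eq_true h)
  simp only [show ∀ x y, Nat.xor x y = x ^^^ y from fun _ _ => rfl, vecN_xor, vecN_smulN] at h'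
  conv_lhs => rw [h']
  simp only [Fin.sum_univ_three, basP, Pi.add_apply, Pi.smul_apply, smul_eq_mul, Nat.shiftRight_eq_div_pow]
  have e : ∀ k : Fin 3, felN (coordN n (d / 2 ^ (36 + 3 * k.val) % 8 % 6)) = vecN n (pivP d k) := fun k => by
    refine Eq.trans ?_ (felN_coordN n (pivP d k))
    simp only [pivP, Nat.shiftRight_eq_div_pow]
  have e0 := e 0
  have e1 := e 1
  have e2 := e 2
  simp only [Fin.val_zero, Fin.val_one, Fin.val_two, Nat.reduceMul, Nat.reduceAdd] at e0 e1 e2 ⊢
  rw [e0, e1, e2, pow_zero, Nat.div_one]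

theorem inPN_of_InP {d n : ℕ} (hn : n < 4096) (h : InP d (vecN n)) : inPN d n = true := by
  have hlt : ∀ s m, m < 4096 → smulN s m < 4096 := by
    intro s m hm
    have ho : omegaN m < 4096 := by
      show ((m >>> 1) &&& 1365) ||| (((m &&& 1365) ^^^ ((m >>> 1) &&& 1365)) <<< 1) < 2 ^ 12
      refine Nat.or_lt_two_pow ((Nat.and_le_right).trans_lt (by norm_num)) ?_
      rw [Nat.shiftLeft_eq]
      have : (m &&& 1365) ^^^ ((m >>> 1) &&& 1365) < 2 ^ 11 :=
        Nat.xor_lt_two_pow ((Nat.and_le_right).trans_lt (by norm_num)) ((Nat.and_le_right).trans_lt (by norm_num))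
      omega
    show (bif s.testBit 0 then m else 0) ^^^ (bif s.testBit 1 then omegaN m else 0) < 2 ^ 12
    refine Nat.xor_lt_two_pow ?_ ?_ <;> (rw [cond_eq_ite]; split) <;> first | assumption | norm_num
  refine Nat.beq_eq.mpr ?_
  have hR : ∀ x y z, x < 4096 → y < 4096 → z < 4096 → Nat.xor (Nat.xor x y) z < 4096 := fun x y z hx hy hz =>
    Nat.xor_lt_two_pow (n := 12) (Nat.xor_lt_two_pow (n := 12) hx hy) hz
  have hR' := hR _ _ _ (hlt (coordN n (d / 2 ^ 36 % 8 % 6)) (d % 4096) (Nat.mod_lt _ (by norm_num)))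
    (hlt (coordN n (d / 2 ^ 39 % 8 % 6)) (d / 2 ^ 12 % 4096) (Nat.mod_lt _ (by norm_num)))
    (hlt (coordN n (d / 2 ^ 42 % 8 % 6)) (d / 2 ^ 24 % 4096) (Nat.mod_lt _ (by norm_num)))
  refine vecN_inj hn hR' (funext fun a => ?_)
  simp only [show ∀ x y, Nat.xor x y = x ^^^ y from fun _ _ => rfl, vecN_xor, vecN_smulN]
  rw [h a]
  simp only [Fin.sum_univ_three, basP, Pi.add_apply, Pi.smul_apply, smul_eq_mul, Nat.shiftRight_eq_div_pow]
  have e : ∀ k : Fin 3, felN (coordN n (d / 2 ^ (36 + 3 * k.val) % 8 % 6)) = vecN n (pivP d k) := fun k => by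
    refine Eq.trans ?_ (felN_coordN n (pivP d k))
    simp only [pivP, Nat.shiftRight_eq_div_pow]
  have e0 := e 0
  have e1 := e 1
  have e2 := e 2
  simp only [Fin.val_zero, Fin.val_one, Fin.val_two, Nat.reduceMul, Nat.reduceAdd] at e0 e1 e2 ⊢
  rw [e0, e1, e2, pow_zero, Nat.div_one]

/-- the matrix with given column codes applied to a code -/
def mvN : List ℕ → ℕ → ℕ
  | [], _ => 0
  | c :: cs, n => Nat.xor (smulN (Nat.land n 3) c) (mvN cs (Nat.shiftRight n 2))

theorem triCols_ok : ∀ g : Fin 4, (triCols.getD g.val []).length = 6 ∧ ∀ a i : Fin 6,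
    vecN ((triCols.getD g.val []).getD a.val 0) i = matN (triMats.getD g.val []) i a := by
  decide +kernel

theorem mvN_eq : ∀ (cs : List ℕ) (n : ℕ) (i : Fin 6), vecN (mvN cs n) i =
    ((List.range cs.length).map fun a =>
      (⟨n.testBit (2 * a), n.testBit (2 * a + 1)⟩ : F4) * vecN (cs.getD a 0) i).sum
  | [], n, i => by rw [mvN, vecN_zero]; rfl
  | c :: cs, n, i => by
    show vecN (smulN (n &&& 3) c ^^^ mvN cs (n >>> 2)) i = _
    rw [vecN_xor, Pi.add_apply, vecN_smulN, mvN_eq cs, List.length_cons, List.range_succ_eq_map,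
      List.map_cons, List.sum_cons, List.map_map, Pi.smul_apply, smul_eq_mul]
    congr 1
    · congr 1
      rw [felN]
      simp [Nat.testBit_and, show (3 : ℕ).testBit 1 = true by decide]
    · refine congrArg List.sum (List.map_congr_left fun a _ => ?_)
      simp only [Function.comp_apply, Nat.testBit_shiftRight, List.getD_cons_succ]
      rw [show 2 + 2 * a = 2 * (a + 1) by omega, show 2 + (2 * a + 1) = 2 * (a + 1) + 1 by omega]

theorem vecN_mvN (g : Fin 4) (n : ℕ) :
    vecN (mvN (triCols.getD g.val []) n) = matN (triMats.getD g.val []) *ᵥ vecN n := by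
  funext i
  obtain ⟨hl, hc⟩ := triCols_ok g
  rw [mvN_eq, hl, Matrix.mulVec, dotProduct, Fin.sum_univ_def, List.finRange_eq_pmap_range]
  simp only [List.map_pmap]
  rw [← List.pmap_eq_map (p := fun a => a < 6) (fun a ha => List.mem_range.1 ha)]
  refine congrArg List.sum (List.pmap_congr_left _ fun a _ ha _ => ?_)
  rw [← hc ⟨a, ha⟩ i, mul_comm]
  rfl

/-- isotropy on codes -/
def isoN (n : ℕ) : Bool :=
  !((List.range 6).foldl (fun b a => xor b (Nat.testBit n (2 * a) || Nat.testBit n (2 * a + 1))) false)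

theorem isoN_iff (n : ℕ) : herm C4 (vecN n) (vecN n) = 0 ↔ isoN n = true := by
  have key : ∀ x : F4, x * C4.σ x = ⟨x.re || x.im, false⟩ := by decide
  simp only [herm, key, Fin.sum_univ_six, vecN, isoN]
  simp only [Fin.val_zero, Fin.val_one, Fin.val_two, List.range_succ, List.range_zero, List.nil_append,
    List.foldl_append, List.foldl_cons, List.foldl_nil]
  generalize (n.testBit (2 * 0) || n.testBit (2 * 0 + 1)) = b0
  generalize (n.testBit (2 * 1) || n.testBit (2 * 1 + 1)) = b1
  generalize (n.testBit (2 * 2) || n.testBit (2 * 2 + 1)) = b2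
  change (F4.mk b0 false + F4.mk b1 false + F4.mk b2 false + _ + _ + _ = 0) ↔ _
  generalize (n.testBit (2 * (3 : Fin 6).val) || n.testBit (2 * (3 : Fin 6).val + 1)) = b3
  generalize (n.testBit (2 * (4 : Fin 6).val) || n.testBit (2 * (4 : Fin 6).val + 1)) = b4
  generalize (n.testBit (2 * (5 : Fin 6).val) || n.testBit (2 * (5 : Fin 6).val + 1)) = b5
  revert b0 b1 b2 b3 b4 b5
  decide

/-- the determinant by expansion along the first row, without signs -/
def detL : (n : ℕ) → Matrix (Fin n) (Fin n) F4 → F4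
  | 0, _ => 1
  | n + 1, M => ∑ j, M 0 j * detL n (M.submatrix Fin.succ j.succAbove)

theorem detL_eq : ∀ (n : ℕ) (M : Matrix (Fin n) (Fin n) F4), detL n M = M.det
  | 0, M => Matrix.det_fin_zero.symm
  | n + 1, M => by
    rw [detL, Matrix.det_succ_row_zero]
    refine Finset.sum_congr rfl fun j _ => ?_
    rw [detL_eq n, show (-1 : F4) = 1 by decide, one_pow, one_mul]

theorem triMats_det : ∀ g : Fin 4, detL 6 (matN (triMats.getD g.val [])) = 1 := by decide +kernel

theorem triMats_orth : ∀ g : Fin 4, ∀ a b : Fin 6,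
    ∑ i, matN (triMats.getD g.val []) i a * (matN (triMats.getD g.val []) i b * matN (triMats.getD g.val []) i b) =
      if a = b then 1 else 0 := by
  decide +kernel

/-- the unitary matrix of a generator -/
def genU (g : Fin 4) : suG C4 (Fin 6) :=
  ⟨⟨matN (triMats.getD g.val []), (detL_eq 6 _).symm.trans (triMats_det g)⟩, fun u v => by
    show herm C4 (matN (triMats.getD g.val []) *ᵥ u) (matN (triMats.getD g.val []) *ᵥ v) = herm C4 u v
    have ho := triMats_orth g
    generalize matN (triMats.getD g.val []) = M at ho ⊢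
    simp only [herm, Matrix.mulVec, dotProduct, map_sum, map_mul, Finset.sum_mul, Finset.mul_sum]
    rw [Finset.sum_comm]
    refine Finset.sum_congr rfl fun b _ => ?_
    rw [Finset.sum_comm]
    calc ∑ a, ∑ i, M i a * u a * (C4.σ (M i b) * C4.σ (v b))
        = ∑ a, u a * C4.σ (v b) * (if a = b then 1 else 0) := by
          refine Finset.sum_congr rfl fun a _ => ?_
          rw [← ho a b, Finset.mul_sum]
          exact Finset.sum_congr rfl fun i _ => by
            rw [show C4.σ (M i b) = M i b * M i b from rfl]; ring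
      _ = u b * C4.σ (v b) := by simp⟩

theorem genU_val (g : Fin 4) : (genU g).1.1 = matN (triMats.getD g.val []) := rfl

end CfsgLib.Co2Unitary
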