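import Cfsg.Agent.Co2Unitary.Field

/-!
Kernel checks on the planes matched with the 891 vectors.
-/

set_option autoImplicit false
set_option maxRecDepth 100000

namespace CfsgLib.Co2Unitary

open TriangleData

/-- plane `i` -/
def planeAt (i : ℕ) : ℕ := look triPlanes i

/-- image of index `i` under generator `g` -/
def permAt (g i : ℕ) : ℕ := look (triPerms.getD g []) i

/-- the three basis codes of a plane -/
def basCodes (d : ℕ) : List ℕ := [d % 4096, d / 2 ^ 12 % 4096, d / 2 ^ 24 % 4096]

theorem triPlanes_maps : (List.range 4).all (fun g => (List.range 891).all fun i =>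
    (basCodes (planeAt i)).all fun b => inPN (planeAt (permAt g i)) (mvN (triCols.getD g []) b)) = true := by
  decide +kernel

theorem framePts_ok : framePts.all (fun e =>
    e.2.2.all (fun i => Nat.blt i 891 && inPN (planeAt i) e.1) && Nat.beq (coordN e.1 e.2.1) 1 &&
    (List.range 4096).all fun n => !(e.2.2.all fun i => inPN (planeAt i) n) ||
      Nat.beq n (smulN (coordN n e.2.1) e.1)) = true := by
  decide +kernel

end CfsgLib.Co2Unitary
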