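import Cfsg.Agent.Co2Unitary.Field
import Cfsg.Agent.Leech.TreeCerts

/-!
Kernel checks on the 891 lattice vectors.
-/

set_option autoImplicit false
set_option maxRecDepth 100000

namespace CfsgLib.Co2Unitary

open Cfsg CfsgLib.Leech TriangleData TreeData

/-- packed vector `i` -/
def vecAt (i : ℕ) : ℕ := look triVecs i

theorem triGens_ok : ∀ g : Fin 4, (triGens.getD g.val []).all Mv.ok = true ∧
    runMoves (triGens.getD g.val []) co2Root = co2Root ∧
      co2Fix.all (fun f => runMoves (triGens.getD g.val []) f == f) = true := by
  decide +kernel

theorem triRoot_ok : penc (dec (vecAt 0)) = vecAt 0 ∧ sqNorm (vec (dec (vecAt 0))) ≤ 80 ∧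
    leechB (vec (dec (vecAt 0))) = true := by
  decide +kernel

theorem triVecs_distinct : distinctB ((List.range 891).map vecAt) = true := by decide +kernel

theorem triPerms_ok : (List.range 4).all (fun g => (List.range 891).all fun i =>
    Nat.blt (look (triPerms.getD g []) i) 891 &&
      Nat.beq ((triGens.getD g []).foldl pact (vecAt i)) (vecAt (look (triPerms.getD g []) i))) = true := by
  decide +kernel

theorem triParents_ok : (List.range 891).all (fun j => Nat.beq j 0 ||
    (Nat.blt (look triParents j % 1024) j && Nat.blt (look triParents j / 1024) 4 &&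
      Nat.beq (look (triPerms.getD (look triParents j / 1024) []) (look triParents j % 1024)) j)) = true := by
  decide +kernel

end CfsgLib.Co2Unitary
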