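import Cfsg.Agent.Co2Unitary.PointTables
import Cfsg.Agent.Co2Unitary.PlaneTables
import Cfsg.Agent.Co2Unitary.VecTables
import Cfsg.Agent.Leech.ConfigMain
import Cfsg.Agent.Leech.StabChain
import Cfsg.Agent.S0280

/-!
The stabiliser of the standard triangle of minimal vectors is isomorphic to `PSU(6,2)` over the
concrete field with four elements.
-/

set_option autoImplicit false

namespace CfsgLib.Co2Unitary

open Cfsg CfsgLib.Leech CfsgLib.Mathieu TriangleData TreeData
open CfsgLib.CriticalFive (F4)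
open CfsgLib.RepBounds.Unit
open scoped Matrix

attribute [local irreducible] dec penc pact vecAt planeAt permAt

/-- the second vertex of the triangle -/
def bR : leechLattice := ⟨vec co2Root, leechB_iff.1 (by decide +kernel)⟩

theorem bR_facts : sqNorm (bR : GolayPt → ℤ) = 32 ∧ dotInt baseA (bR : GolayPt → ℤ) = -16 := by
  have h : sqNorm (vec co2Root) = 32 ∧ dotInt baseA (vec co2Root) = -16 := by decide +kernel
  exact h

/-- the stabiliser of the triangle -/
def triStab : Subgroup Co0 := MulAction.stabilizer Co0 bA ⊓ MulAction.stabilizer Co0 bR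

theorem card_triStab : Nat.card triStab = 9196830720 := by
  have h := card_eq_orb_mul (MulAction.stabilizer Co0 bA) bR
  rw [card_stab_norm32 base_facts.2.1.2] at h
  have horb : (orb (MulAction.stabilizer Co0 bA) bR).ncard = 4600 := by
    rw [← Set.ncard_image_of_injective _ Subtype.val_injective]
    refine (congrArg Set.ncard ?_).trans ncard_dotSet_A
    ext x
    constructor
    · rintro ⟨y, ⟨g, hg, rfl⟩, rfl⟩
      exact ⟨(g • bR).2, (co0_norm g bR).trans bR_facts.1,
        (smul_dot_eq (a := bA) hg bR).trans bR_facts.2⟩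
    · intro hx
      obtain ⟨g, hg, e⟩ := to4600 (x := bR) ⟨bR.2, bR_facts⟩ (y := ⟨x, hx.1⟩) hx
      exact ⟨⟨x, hx.1⟩, ⟨g, hg, e⟩, rfl⟩
  rw [horb] at h
  show Nat.card ↥(MulAction.stabilizer Co0 bA ⊓ MulAction.stabilizer Co0 bR) = _
  omega

theorem card_psu : Nat.card (Cfsg.PSU 6 F4 2) = 9196830720 := by
  have h := Cfsg.Agent.S0280.result (F := F4) (q := 2) (by rw [F4.card_eq]; norm_num) 6 (by norm_num)
  norm_num [Finset.prod_range_succ] at h
  omega

theorem SU_eq : suG C4 (Fin 6) = Cfsg.SU 6 F4 2 := suG_fin_eq C4 6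

/-- the projection to `PSU(6,2)` -/
def toPSU : suG C4 (Fin 6) →* Cfsg.PSU 6 F4 2 :=
  (QuotientGroup.mk' _).comp (MulEquiv.subgroupCongr SU_eq).toMonoidHom

theorem toPSU_surjective : Function.Surjective toPSU :=
  (QuotientGroup.mk'_surjective _).comp (MulEquiv.subgroupCongr SU_eq).surjective

/-- a generator and what it does -/
theorem genCo_spec (g : Fin 4) : ∃ s : Co0, s ∈ triStab ∧ ∀ (l : List ℤ) (hl : vec l ∈ leechLattice),
    ((s • (⟨vec l, hl⟩ : leechLattice) : leechLattice) : GolayPt → ℤ) =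
      vec (runMoves (triGens.getD g.val []) l) := by
  obtain ⟨hok, hR, hA⟩ := triGens_ok g
  obtain ⟨s, -, hs⟩ := runMoves_spec _ hok
  refine ⟨s, ⟨?_, ?_⟩, hs⟩
  · show s • bA = bA
    have h := beq_iff_eq.1 (List.all_eq_true.1 hA co2Fix[0] (List.getElem_mem _))
    exact smul_eq_of_vec (l := co2Fix[0]) rfl hs h
  · exact smul_eq_of_vec (l := co2Root) rfl hs hR

/-- a generator -/
noncomputable def genCo (g : Fin 4) : Co0 := (genCo_spec g).choose

theorem perm_lt (g : Fin 4) {i : ℕ} (hi : i < 891) : permAt g.val i < 891 := by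
  have h := List.all_eq_true.1 (List.all_eq_true.1 triPerms_ok g.val (List.mem_range.2 g.2)) i
    (List.mem_range.2 hi)
  simp only [Bool.and_eq_true] at h
  unfold permAt
  exact (by simpa using h.1 : look (triPerms.getD g.val []) i < 891)

theorem vec_good : ∀ j, j < 891 → penc (dec (vecAt j)) = vecAt j ∧
    sqNorm (vec (dec (vecAt j))) ≤ 80 ∧ vec (dec (vecAt j)) ∈ leechLattice := by
  intro j
  induction j using Nat.strong_induction_on with
  | _ j ih =>
    intro hj
    have h := List.all_eq_true.1 triParents_ok j (List.mem_range.2 hj)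
    simp only [Bool.or_eq_true, Bool.and_eq_true] at h
    rcases h with h | ⟨⟨hi, hg⟩, he⟩
    · rw [Nat.eq_of_beq_eq_true h]
      exact ⟨triRoot_ok.1, triRoot_ok.2.1, leechB_iff.1 triRoot_ok.2.2⟩
    · rw [Nat.blt_eq] at hi hg
      set i := look triParents j % 1024
      set g : Fin 4 := ⟨look triParents j / 1024, hg⟩
      have hi' : i < 891 := lt_trans hi hj
      obtain ⟨hp, hn, hm⟩ := ih i hi hi'
      have h2 := List.all_eq_true.1 (List.all_eq_true.1 triPerms_ok g.val (List.mem_range.2 g.2)) i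
        (List.mem_range.2 hi')
      simp only [Bool.and_eq_true] at h2
      have e := Nat.eq_of_beq_eq_true h2.2
      rw [Nat.eq_of_beq_eq_true he] at e
      obtain ⟨hok, -, -⟩ := triGens_ok g
      obtain ⟨e1, e2⟩ := prun_spec _ hok (vecAt i) hm hn hp
      rw [e] at e1 e2
      obtain ⟨s, -, hs⟩ := runMoves_spec _ hok
      refine ⟨e2, ?_, ?_⟩
      · rw [e1, ← hs _ hm, co0_norm]; exact hn
      · rw [e1, ← hs _ hm]; exact (s • (⟨_, hm⟩ : leechLattice)).2

/-- vector `i` of the configuration -/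
noncomputable def xv (i : Fin 891) : leechLattice := ⟨vec (dec (vecAt i.val)), (vec_good i.val i.2).2.2⟩

theorem xv_injective : Function.Injective xv := by
  intro i j e
  have h := congrArg (fun v : leechLattice => toList (v : GolayPt → ℤ)) e
  simp only [xv, toList_vec (dec_length _)] at h
  have h2 : vecAt i.val = vecAt j.val := by
    rw [← (vec_good i.val i.2).1, ← (vec_good j.val j.2).1, h]
  exact Fin.ext (List.inj_on_of_nodup_map (nodup_of_distinctB triVecs_distinct)
    (List.mem_range.2 i.2) (List.mem_range.2 j.2) h2)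

theorem genCo_xv (g : Fin 4) (i : Fin 891) :
    genCo g • xv i = xv ⟨permAt g.val i.val, perm_lt g i.2⟩ := by
  obtain ⟨hp, hn, hm⟩ := vec_good i.val i.2
  obtain ⟨e1, -⟩ := prun_spec _ (triGens_ok g).1 (vecAt i.val) hm hn hp
  have h2 := List.all_eq_true.1 (List.all_eq_true.1 triPerms_ok g.val (List.mem_range.2 g.2)) i.val
    (List.mem_range.2 i.2)
  simp only [Bool.and_eq_true] at h2
  rw [Nat.eq_of_beq_eq_true h2.2] at e1
  refine Subtype.ext (((genCo_spec g).choose_spec.2 _ hm).trans ?_)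
  rw [← e1]
  unfold permAt
  rfl

theorem genU_plane (g : Fin 4) (i : Fin 891) {w : V6} (hw : InP (planeAt i.val) w) :
    InP (planeAt (permAt g.val i.val)) (app C4 (genU g) w) := by
  refine InP.mulVec (fun k => ?_) hw
  have h := List.all_eq_true.1 (List.all_eq_true.1 triPlanes_maps g.val (List.mem_range.2 g.2)) i.val
    (List.mem_range.2 i.2)
  rw [List.all_eq_true] at h
  rw [genU_val, basP, Nat.shiftRight_eq_div_pow, ← vecN_mvN]
  refine InP_of_inPN (h _ ?_)
  fin_cases k <;> simp [basCodes]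

/-- pairs acting compatibly on the vectors and the planes -/
def Compat (x : ↥triStab × suG C4 (Fin 6)) : Prop :=
  ∀ i : Fin 891, ∃ j : Fin 891, x.1.1 • xv i = xv j ∧
    ∀ w, InP (planeAt i.val) w → InP (planeAt j.val) (app C4 x.2 w)

theorem Compat.one : Compat 1 := fun i => ⟨i, one_smul _ _, fun w h => by
  simpa [app_one] using h⟩

theorem Compat.mul {x y : ↥triStab × suG C4 (Fin 6)} (hx : Compat x) (hy : Compat y) :
    Compat (x * y) := fun i => by
  obtain ⟨j, e, hj⟩ := hy i
  obtain ⟨k, e', hk⟩ := hx j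
  refine ⟨k, ?_, fun w hw => ?_⟩
  · show (x.1.1 * y.1.1) • xv i = _
    rw [mul_smul, e, e']
  · show InP _ (app C4 (x.2 * y.2) w)
    rw [app_mul]
    exact hk _ (hj _ hw)

/-- the compatible pairs -/
noncomputable def pairs : Subgroup (↥triStab × suG C4 (Fin 6)) where
  carrier := {x | Compat x}
  one_mem' := Compat.one
  mul_mem' := Compat.mul
  inv_mem' := by
    intro x hx
    have := co0_finite
    have hp : ∀ n : ℕ, Compat (x ^ n) := fun n => by
      induction n with
      | zero => rw [pow_zero]; exact Compat.one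
      | succ n ih => rw [pow_succ]; exact ih.mul hx
    show Compat x⁻¹
    have h1 : x * x ^ (orderOf x - 1) = 1 := by
      rw [← pow_succ', Nat.sub_add_cancel (orderOf_pos x), pow_orderOf_eq_one]
    rw [inv_eq_of_mul_eq_one_right h1]
    exact hp _

theorem gen_mem_pairs (g : Fin 4) :
    ((⟨genCo g, (genCo_spec g).choose_spec.1⟩, genU g) : ↥triStab × suG C4 (Fin 6)) ∈ pairs :=
  fun i => ⟨_, genCo_xv g i, fun _ hw => genU_plane g i hw⟩

/-- the second projection, onto `PSU(6,2)` -/
noncomputable def piU : ↥pairs →* Cfsg.PSU 6 F4 2 :=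
  (toPSU.comp (MonoidHom.snd _ _)).comp pairs.subtype

/-- the first projection -/
noncomputable def piS : ↥pairs →* ↥triStab := (MonoidHom.fst _ _).comp pairs.subtype

theorem genU_mem (g : Fin 4) : genU g ∈ pairs.map (MonoidHom.snd _ _) :=
  ⟨_, gen_mem_pairs g, rfl⟩

theorem runWord_spec : ∀ w : List ℕ, w.all (fun g => Nat.blt g 4) = true →
    ∃ U ∈ pairs.map (MonoidHom.snd _ _), ∀ n, vecN (runWord w n) = app C4 U (vecN n)
  | [], _ => ⟨1, one_mem _, fun n => by rw [runWord, app_one]⟩
  | g :: w, h => by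
    simp only [List.all_cons, Bool.and_eq_true, Nat.blt_eq] at h
    obtain ⟨U, hU, hs⟩ := runWord_spec w h.2
    refine ⟨U * genU ⟨g, h.1⟩, mul_mem hU (genU_mem _), fun n => ?_⟩
    rw [runWord, force_eq, hs, app_mul, vecN_mvN ⟨g, h.1⟩]
    rfl

/-- the transvections in the image -/
def InImage (v : V6) : Prop :=
  ∃ U ∈ pairs.map (MonoidHom.snd _ _), IsTransv C4 U v 1

theorem root_inImage : InImage (vecN transvRoot) := by
  obtain ⟨hw, he⟩ := transvWord_ok
  obtain ⟨U, hU, hs⟩ := runWord_spec _ hw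
  refine ⟨U, hU, fun x => ?_⟩
  have hb : ∀ j : Fin 6, app C4 U (Pi.single j 1) =
      Pi.single j 1 + (1 * herm C4 (Pi.single j 1) (vecN transvRoot)) • vecN transvRoot := by
    intro j
    have hj : vecN (4 ^ j.val) = Pi.single j 1 := by
      revert j; decide +kernel
    rw [← hj, ← hs, he]
    show vecN ((4 ^ j.val) ^^^ _) = _
    rw [vecN_xor, vecN_smulN, vecN_smulN, felN_coordN, smul_smul, hj]
    congr 2
    rw [one_mul, herm, Finset.sum_eq_single j]
    · rw [Pi.single_eq_same, one_mul]; rfl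
    · intro b _ hb; rw [Pi.single_eq_of_ne hb, zero_mul]
    · intro h; exact absurd (Finset.mem_univ j) h
  let f : V6 →ₗ[F4] V6 := Matrix.toLin' U.1.1
  have hfx : ∀ y, app C4 U y = f y := fun y => (Matrix.toLin'_apply _ _).symm
  have hlin : f = transvMap C4 (vecN transvRoot) 1 := by
    refine (Pi.basisFun F4 (Fin 6)).ext fun j => ?_
    rw [Pi.basisFun_apply, ← hfx, hb]
    rfl
  rw [hfx, hlin]
  rfl

theorem InImage.smul {v : V6} (h : InImage v) {c : F4} (hc : c ≠ 0) : InImage (c • v) := by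
  obtain ⟨U, hU, ht⟩ := h
  refine ⟨U, hU, fun x => ?_⟩
  rw [ht x, herm_smul_right, smul_smul, one_mul, one_mul]
  congr 2
  have hn : c * C4.σ c = 1 := (by decide : ∀ a : F4, a ≠ 0 → a * C4.σ a = 1) c hc
  linear_combination -(herm C4 x v) * hn

theorem InImage.move {v : V6} (h : InImage v) (g : Fin 4) : InImage (app C4 (genU g) v) := by
  obtain ⟨U, hU, ht⟩ := h
  refine ⟨genU g * U * (genU g)⁻¹, mul_mem (mul_mem (genU_mem g) hU) (inv_mem (genU_mem g)), fun x => ?_⟩
  rw [app_mul, app_mul, ht]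
  show (genU g).1.1 *ᵥ _ = _
  rw [Matrix.mulVec_add, Matrix.mulVec_smul]
  show app C4 (genU g) (app C4 (genU g)⁻¹ x) + _ • app C4 (genU g) v = _
  rw [app_app_inv, herm_app_left]

theorem ordered_inImage : ∀ (l : List (ℕ × ℕ × ℕ)) (known : List ℕ), (∀ s ∈ l, s ∈ pointSteps) →
    orderedP known l = true → (∀ n ∈ known, InImage (vecN n)) →
      ∀ n ∈ l.map Prod.fst, InImage (vecN n)
  | [], _, _, _, _, n, hn => absurd hn List.not_mem_nil
  | s :: l, known, hsub, hord, hk, n, hn => by
    rw [orderedP, Bool.and_eq_true, List.contains_iff_mem] at hord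
    have h := List.all_eq_true.1 pointSteps_ok s (hsub s List.mem_cons_self)
    simp only [Bool.and_eq_true, Nat.blt_eq, List.any_eq_true] at h
    obtain ⟨hg, c, hc, he⟩ := h
    have e := congrArg vecN (Nat.eq_of_beq_eq_true he)
    rw [vecN_mvN ⟨_, hg⟩, vecN_smulN] at e
    have hne : felN c ≠ 0 := (by decide : ∀ a ∈ [1, 2, 3], felN a ≠ 0) c hc
    have hc' : InImage (vecN s.1) := by
      have h1 := ((hk _ hord.1).move ⟨_, hg⟩).smul (inv_ne_zero hne)
      rwa [show app C4 (genU ⟨_, hg⟩) (vecN s.2.2) = felN c • vecN s.1 from e, smul_smul,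
        inv_mul_cancel₀ hne, one_smul] at h1
    rcases List.mem_cons.1 hn with rfl | hn
    · exact hc'
    · refine ordered_inImage l (s.1 :: known) (fun t ht => hsub t (List.mem_cons_of_mem _ ht))
        hord.2 (fun m hm => ?_) n hn
      rcases List.mem_cons.1 hm with rfl | hm
      exacts [hc', hk m hm]

theorem all_inImage {v : V6} (hv : herm C4 v v = 0) (hne : v ≠ 0) : InImage v := by
  obtain ⟨n, hn, rfl⟩ := vecN_codeV v
  have h := List.all_eq_true.1 isotropic_covered n (List.mem_range.2 hn)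
  simp only [Bool.or_eq_true, Bool.not_eq_true', List.any_eq_true] at h
  rcases h with (h | h) | ⟨c, hc, h⟩
  · exact absurd (by rw [Nat.eq_of_beq_eq_true h, vecN_zero]) hne
  · rw [(isoN_iff n).1 hv] at h; exact absurd h (by simp)
  · have hmem := mem_of_bitSet h
    have hcov : InImage (vecN (smulN c n)) := by
      rcases List.mem_cons.1 hmem with e | e
      · rw [e]; exact root_inImage
      · exact ordered_inImage pointSteps [transvRoot] (fun _ h => h) pointSteps_ordered
          (fun m hm => by rw [List.mem_singleton.1 hm]; exact root_inImage) _ e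
    rw [vecN_smulN] at hcov
    have hne' : felN c ≠ 0 := (by decide : ∀ a ∈ [1, 2, 3], felN a ≠ 0) c hc
    simpa [smul_smul, inv_mul_cancel₀ hne'] using hcov.smul (inv_ne_zero hne')

theorem snd_pairs_top : pairs.map (MonoidHom.snd _ _) = ⊤ := by
  rw [eq_top_iff, ← transvs_eq_top C4 (ι := Fin 6) (by simp), transvs, Subgroup.closure_le]
  rintro a ⟨v, c, hv, hc, ha⟩
  by_cases h0 : (c = 0 ∨ v = 0)
  · have : a = 1 := suG_ext C4 fun x => by
      rw [ha x, app_one]
      rcases h0 with rfl | rfl <;> simp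
    rw [this]; exact one_mem _
  · push Not at h0
    have hc1 : c = 1 := (by decide : ∀ a : F4, a + C4.σ a = 0 → a ≠ 0 → a = 1) c hc h0.1
    obtain ⟨U, hU, ht⟩ := all_inImage hv h0.2
    have : a = U := suG_ext C4 fun x => by rw [ha x, ht x, hc1]
    rw [this]; exact hU

theorem piU_surjective : Function.Surjective piU := fun y => by
  obtain ⟨a, rfl⟩ := toPSU_surjective y
  obtain ⟨x, hx, rfl⟩ := (snd_pairs_top ▸ Subgroup.mem_top a : a ∈ pairs.map (MonoidHom.snd _ _))
  exact ⟨⟨x, hx⟩, rfl⟩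

theorem frame_fixed {x : ↥pairs} (h : piS x = 1) {e : ℕ × ℕ × List ℕ} (he : e ∈ framePts) :
    ∃ l : F4, app C4 x.1.2 (vecN e.1) = l • vecN e.1 := by
  have hok := List.all_eq_true.1 framePts_ok e he
  simp only [Bool.and_eq_true, List.all_eq_true, Nat.blt_eq] at hok
  obtain ⟨⟨h1, -⟩, h3⟩ := hok
  obtain ⟨n, hn, en⟩ := vecN_codeV (app C4 x.1.2 (vecN e.1))
  have hall : ∀ i ∈ e.2.2, inPN (planeAt i) n = true := fun i hi => by
    obtain ⟨hlt, hin⟩ := h1 i hi
    refine inPN_of_InP hn ?_
    rw [en]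
    obtain ⟨j, ej, hj⟩ := x.2 ⟨i, hlt⟩
    have h' : x.1.1 = 1 := h
    rw [h', OneMemClass.coe_one, one_smul] at ej
    have := xv_injective ej
    subst this
    exact hj _ (InP_of_inPN hin)
  have h4 := h3 n (List.mem_range.2 hn)
  simp only [Bool.or_eq_true, Bool.not_eq_true'] at h4
  rcases h4 with h4 | h4
  · rw [← Bool.not_eq_true, List.all_eq_true] at h4
    exact absurd hall h4
  · exact ⟨felN (coordN n e.2.1), by rw [← en, ← vecN_smulN, ← Nat.eq_of_beq_eq_true h4]⟩

theorem frame_vecs : ∀ a : Fin 6, ∀ z : Bool, ∃ e ∈ framePts, ∀ i : Fin 6, vecN e.1 i =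
    (if i = a then 1 else 0) + (if i.val = (a.val + 1) % 6 then (if z then ⟨false, true⟩ else 1) else 0) := by
  decide +kernel

theorem ker_piS_le : piS.ker ≤ piU.ker := by
  intro x hx
  rw [MonoidHom.mem_ker] at hx ⊢
  set M := x.1.2.1.1 with hM
  have hp : ∀ a : Fin 6, ∀ z : Bool, ∃ l : F4, ∀ i : Fin 6,
      M i a + M i ⟨(a.val + 1) % 6, Nat.mod_lt _ (by norm_num)⟩ * (if z then ⟨false, true⟩ else 1) =
        l * ((if i = a then 1 else 0) +
          (if i.val = (a.val + 1) % 6 then (if z then ⟨false, true⟩ else 1) else 0)) := by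
    intro a z
    obtain ⟨e, he, hv⟩ := frame_vecs a z
    obtain ⟨l, hl⟩ := frame_fixed hx he
    refine ⟨l, fun i => ?_⟩
    have := congrFun hl i
    rw [Pi.smul_apply, smul_eq_mul, hv, show app C4 x.1.2 (vecN e.1) = M *ᵥ vecN e.1 from rfl] at this
    rw [← this, Matrix.mulVec, dotProduct]
    simp only [hv, mul_add, Finset.sum_add_distrib, mul_ite, mul_one, mul_zero, Finset.sum_ite_eq',
      Finset.mem_univ, if_true, ← Fin.ext_iff]
    congr 1
    rw [Finset.sum_eq_single (⟨(a.val + 1) % 6, Nat.mod_lt _ (by norm_num)⟩ : Fin 6)]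
    · simp
    · intro b _ hb
      rw [if_neg fun e => hb (Fin.ext e)]
    · intro h; exact absurd (Finset.mem_univ _) h
  have hrow : ∀ a i : Fin 6, i ≠ a → i.val ≠ (a.val + 1) % 6 →
      M i a = 0 ∧ M i ⟨(a.val + 1) % 6, Nat.mod_lt _ (by norm_num)⟩ = 0 := by
    intro a i h1 h2
    obtain ⟨l, hl⟩ := hp a false
    obtain ⟨l', hl'⟩ := hp a true
    have e1 := hl i
    have e2 := hl' i
    rw [if_neg h1, if_neg h2, add_zero, mul_zero] at e1 e2
    exact (by decide : ∀ p q : F4, p + q * 1 = 0 → p + q * ⟨false, true⟩ = 0 → p = 0 ∧ q = 0) _ _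
      (by simpa using e1) (by simpa using e2)
  have hoff : ∀ i a : Fin 6, i ≠ a → M i a = 0 := by
    intro i a h
    by_cases h2 : i.val = (a.val + 1) % 6
    · have key : ∀ i a : Fin 6, i ≠ a → i.val = (a.val + 1) % 6 → ∃ b : Fin 6,
          (⟨(b.val + 1) % 6, Nat.mod_lt _ (by norm_num)⟩ : Fin 6) = a ∧ i ≠ b ∧
            i.val ≠ (b.val + 1) % 6 := by decide
      obtain ⟨b, hb, hb1, hb2⟩ := key i a h h2
      rw [← hb]; exact (hrow b i hb1 hb2).2
    · exact (hrow a i h h2).1
  have hdiag : ∀ a : Fin 6, M a a = M ⟨(a.val + 1) % 6, Nat.mod_lt _ (by norm_num)⟩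
      ⟨(a.val + 1) % 6, Nat.mod_lt _ (by norm_num)⟩ := by
    intro a
    have hne : (⟨(a.val + 1) % 6, Nat.mod_lt _ (by norm_num)⟩ : Fin 6) ≠ a := by
      revert a; decide
    obtain ⟨l, hl⟩ := hp a false
    have e1 := hl a
    have e2 := hl ⟨(a.val + 1) % 6, Nat.mod_lt _ (by norm_num)⟩
    rw [hoff a _ hne.symm] at e1
    rw [hoff _ a hne] at e2
    simp [hne, Fin.val_ne_of_ne hne.symm] at e1 e2
    rw [e1, e2]
  have hsc : ∀ a : Fin 6, M a a = M 0 0 := by
    have h0 := hdiag 0
    have h1 := hdiag 1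
    have h2 := hdiag 2
    have h3 := hdiag 3
    have h4 := hdiag 4
    intro a
    fin_cases a
    exacts [rfl, h0.symm, (h0.trans h1).symm, (h0.trans (h1.trans h2)).symm,
      (h0.trans (h1.trans (h2.trans h3))).symm, (h0.trans (h1.trans (h2.trans (h3.trans h4)))).symm]
  have happ : ∀ v, app C4 x.1.2 v = M 0 0 • v := fun v => by
    funext i
    show (M *ᵥ v) i = _
    rw [Matrix.mulVec, dotProduct, Finset.sum_eq_single i (fun b _ hb => by
      rw [hoff i b (Ne.symm hb), zero_mul]) (fun h => absurd (Finset.mem_univ i) h), hsc i]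
    rfl
  have hcen : x.1.2 ∈ Subgroup.center (suG C4 (Fin 6)) := by
    rw [Subgroup.mem_center_iff]
    intro y
    refine suG_ext C4 fun v => ?_
    rw [app_mul, app_mul, happ, happ]
    exact Matrix.mulVec_smul _ _ _
  show (QuotientGroup.mk ((MulEquiv.subgroupCongr SU_eq) x.1.2) : Cfsg.PSU 6 F4 2) = 1
  rw [QuotientGroup.eq_one_iff, Subgroup.mem_center_iff]
  intro y
  obtain ⟨y, rfl⟩ := (MulEquiv.subgroupCongr SU_eq).surjective y
  rw [← map_mul, ← map_mul, Subgroup.mem_center_iff.1 hcen y]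

theorem triStab_equiv : Nonempty (↥triStab ≃* Cfsg.PSU 6 F4 2) := by
  have := co0_finite
  have hP : Finite ↥pairs := inferInstance
  have hU := (Subgroup.card_eq_card_quotient_mul_card_subgroup piU.ker)
  rw [Nat.card_congr (QuotientGroup.quotientKerEquivOfSurjective piU piU_surjective).toEquiv,
    card_psu] at hU
  have hS := (Subgroup.card_eq_card_quotient_mul_card_subgroup piS.ker)
  rw [Nat.card_congr (QuotientGroup.quotientKerEquivRange piS).toEquiv] at hS
  have hr : Nat.card piS.range ≤ 9196830720 := card_triStab ▸ Subgroup.card_le_card_group piS.range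
  have hk : piS.ker = piU.ker := by
    refine Subgroup.eq_of_le_of_card_ge ker_piS_le ?_
    have h1 : 0 < Nat.card piS.ker := Nat.card_pos
    nlinarith
  have hs : Function.Surjective piS := by
    rw [← MonoidHom.range_eq_top]
    refine Subgroup.eq_top_of_card_eq _ ?_
    rw [card_triStab]
    have h1 : 0 < Nat.card piU.ker := Nat.card_pos
    rw [hk] at hS
    exact Nat.eq_of_mul_eq_mul_right h1 (hS.symm.trans hU)
  exact ⟨(QuotientGroup.quotientKerEquivOfSurjective piS hs).symm.trans
    ((QuotientGroup.quotientMulEquivOfEq hk).trans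
      (QuotientGroup.quotientKerEquivOfSurjective piU piU_surjective))⟩

end CfsgLib.Co2Unitary
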