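import Cfsg.Agent.Co2Unitary.Field
import Cfsg.Agent.Leech.Tree

/-!
Kernel checks on the isotropic points and the transvection word.
-/

set_option autoImplicit false
set_option maxRecDepth 100000

namespace CfsgLib.Co2Unitary

open TriangleData

/-- apply a word of generators to a coded vector -/
def runWord : List ℕ → ℕ → ℕ
  | [], n => n
  | g :: w, n => CfsgLib.Leech.force (mvN (triCols.getD g []) n) (runWord w)

theorem transvRoot_iso : isoN transvRoot = true := by decide +kernel

theorem transvWord_ok : transvWord.all (fun g => Nat.blt g 4) = true ∧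
    ∀ j : Fin 6, runWord transvWord (4 ^ j.val) =
      Nat.xor (4 ^ j.val) (smulN (coordN transvRoot j.val)
        (smulN (coordN transvRoot j.val) transvRoot)) := by
  decide +kernel

theorem pointSteps_ok : pointSteps.all (fun s => Nat.blt s.2.1 4 &&
    [1, 2, 3].any fun c => Nat.beq (mvN (triCols.getD s.2.1 []) s.2.2) (smulN c s.1)) = true := by
  decide +kernel

/-- parents come first -/
def orderedP : List ℕ → List (ℕ × ℕ × ℕ) → Bool
  | _, [] => true
  | known, s :: l => known.contains s.2.2 && orderedP (s.1 :: known) l

theorem pointSteps_ordered : orderedP [transvRoot] pointSteps = true := by decide +kernel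

/-- the bit set of a list -/
def bitSet : List ℕ → ℕ
  | [] => 0
  | c :: cs => Nat.lor (Nat.shiftLeft 1 c) (bitSet cs)

theorem mem_of_bitSet : ∀ {cs : List ℕ} {n : ℕ}, (bitSet cs).testBit n = true → n ∈ cs
  | [], n, h => by simp [bitSet] at h
  | c :: cs, n, h => by
    rw [bitSet, show Nat.lor (Nat.shiftLeft 1 c) (bitSet cs) = (1 <<< c) ||| bitSet cs from rfl,
      Nat.testBit_or, Bool.or_eq_true] at h
    rcases h with h | h
    · rw [Nat.one_shiftLeft, Nat.testBit_two_pow, decide_eq_true_eq] at h
      exact List.mem_cons.2 (Or.inl h.symm)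
    · exact List.mem_cons_of_mem _ (mem_of_bitSet h)

theorem isotropic_covered :
    (fun B => (List.range 4096).all fun n => Nat.beq n 0 || !isoN n ||
      [1, 2, 3].any fun c => Nat.testBit B (smulN c n))
      (bitSet (transvRoot :: pointSteps.map Prod.fst)) = true := by
  decide +kernel

end CfsgLib.Co2Unitary
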