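import Cfsg.Agent.Co2Unitary.Main
import Cfsg.Agent.Leech.StabConj
import Mathlib.FieldTheory.Finite.GaloisField

/-!
Transport to any field with four elements and to any triangle of minimal vectors.
-/

set_option autoImplicit false

namespace CfsgLib.Co2Unitary

open Cfsg CfsgLib.Leech
open CfsgLib.CriticalFive (F4)
open scoped Matrix

variable {F K : Type*} [Field F] [Field K] (e : F ≃+* K) (n q : ℕ)

theorem mapSL_mem {g : Matrix.SpecialLinearGroup (Fin n) F} (h : g ∈ Cfsg.SU n F q) :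
    Matrix.SpecialLinearGroup.map e.toRingHom g ∈ Cfsg.SU n K q := by
  intro u v
  have hu : ∀ w : Fin n → F, (g.1.map e) *ᵥ (e ∘ w) = e ∘ (g.1 *ᵥ w) := fun w =>
    funext fun i => (RingHom.map_mulVec e.toRingHom g.1 w i).symm
  have hh : ∀ x y : Fin n → F, Cfsg.hermForm n K q (e ∘ x) (e ∘ y) = e (Cfsg.hermForm n F q x y) := by
    intro x y
    simp [Cfsg.hermForm, map_sum, map_mul, map_pow]
  obtain ⟨u, rfl⟩ : ∃ a : Fin n → F, e ∘ a = u := ⟨e.symm ∘ u, funext fun i => e.apply_symm_apply _⟩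
  obtain ⟨v, rfl⟩ : ∃ a : Fin n → F, e ∘ a = v := ⟨e.symm ∘ v, funext fun i => e.apply_symm_apply _⟩
  show Cfsg.hermForm n K q ((g.1.map e) *ᵥ (e ∘ u)) ((g.1.map e) *ᵥ (e ∘ v)) = _
  rw [hu, hu, hh, hh]
  exact congrArg e (h u v)

/-- The special unitary groups over isomorphic fields. -/
def mapSU : ↥(Cfsg.SU n F q) ≃* ↥(Cfsg.SU n K q) where
  toFun g := ⟨Matrix.SpecialLinearGroup.map e.toRingHom g.1, mapSL_mem e n q g.2⟩
  invFun g := ⟨Matrix.SpecialLinearGroup.map e.symm.toRingHom g.1, mapSL_mem e.symm n q g.2⟩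
  left_inv g := Subtype.ext (Subtype.ext (Matrix.ext fun i j => e.symm_apply_apply _))
  right_inv g := Subtype.ext (Subtype.ext (Matrix.ext fun i j => e.apply_symm_apply _))
  map_mul' g h := Subtype.ext (map_mul (Matrix.SpecialLinearGroup.map e.toRingHom) g.1 h.1)

theorem map_center_mulEquiv {G H : Type*} [Group G] [Group H] (f : G ≃* H) :
    (Subgroup.center G).map (f : G →* H) = Subgroup.center H := by
  ext y
  obtain ⟨x, rfl⟩ := f.surjective y
  rw [Subgroup.mem_center_iff]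
  constructor
  · rintro ⟨z, hz, ez⟩ w
    obtain ⟨w, rfl⟩ := f.surjective w
    have : z = x := f.injective ez
    subst this
    rw [← map_mul, ← map_mul, Subgroup.mem_center_iff.1 hz w]
  · intro h
    refine ⟨x, Subgroup.mem_center_iff.2 fun w => f.injective ?_, rfl⟩
    rw [map_mul, map_mul, h]

/-- The projective special unitary groups over isomorphic fields. -/
noncomputable def mapPSU : Cfsg.PSU n F q ≃* Cfsg.PSU n K q :=
  QuotientGroup.congr _ _ (mapSU e n q) (map_center_mulEquiv _)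

theorem triangle_stabilizer (v w : leechLattice) (hv : sqNorm (v : GolayPt → ℤ) = 32)
    (hw : sqNorm (w : GolayPt → ℤ) = 32) (hd : dotInt (v : GolayPt → ℤ) (w : GolayPt → ℤ) = -16)
    (F : Type) [Field F] [Fintype F] (hF : Fintype.card F = 4) :
    Nonempty (↥(MulAction.stabilizer Co0 v ⊓ MulAction.stabilizer Co0 w) ≃* Cfsg.PSU 6 F 2) := by
  obtain ⟨g, hg⟩ := transitive_norm32 v bA hv base_facts.2.1.2
  obtain ⟨h, hA, e⟩ := to4600 (x := g • w) ⟨(g • w).2, by rw [co0_norm]; exact hw,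
    (smul_dot_eq hg w).trans hd⟩ (y := bR) ⟨bR.2, bR_facts⟩
  obtain ⟨φ⟩ := triStab_equiv
  let ψ : ↥(MulAction.stabilizer Co0 v ⊓ MulAction.stabilizer Co0 w) ≃* ↥triStab :=
    stabEquiv₂ (g := h * g) (by rw [mul_smul, hg, hA]) (by rw [mul_smul, e])
  exact ⟨(ψ.trans φ).trans (mapPSU (FiniteField.ringEquivOfCardEq (F4.card_eq.trans hF.symm)) 6 2)⟩

end CfsgLib.Co2Unitary
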